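import Cfsg.Agent.CoThreeMult.Tables

/-!
The tables of the further elements are those of their words.
-/

set_option autoImplicit false
set_option Elab.async false
set_option maxRecDepth 100000

namespace CfsgLib.CoThreeMult

open CfsgLib.Leech CfsgLib.Schur.PermCert

theorem defs_ok : defsOK 5 defs = true := by decide +kernel

end CfsgLib.CoThreeMult
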