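import Cfsg.Agent.CoThreeMult.Tables
import Cfsg.Agent.Leech.TreeData

/-!
The tables of the generators are those of the moves.
-/

set_option autoImplicit false
set_option Elab.async false
set_option maxRecDepth 100000

namespace CfsgLib.CoThreeMult

open CfsgLib.Leech CfsgLib.Schur.PermCert

open TreeData

attribute [local irreducible] dec

theorem moves_ok : ((List.range 5).all fun x => (List.range 552).all fun i =>
    Nat.beq ((co3vGens.getD x []).foldl pact (code i)) (code (tab x i)) &&
      Nat.blt (tab x i) 552) = true := by decide +kernel

end CfsgLib.CoThreeMult
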