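import Cfsg.Agent.Leech.Tree
import Cfsg.Agent.Schur.PermCert
import Cfsg.Agent.CoThreeMult.ActionData

/-!
Tables of the stored elements of `Co₃` and the checks on them.
-/

set_option autoImplicit false
set_option Elab.async false
set_option maxRecDepth 100000

namespace CfsgLib.CoThreeMult

open CfsgLib.Leech CfsgLib.Schur.PermCert

open CfsgLib.Schur.Pc (normalWords Rules)

/-- The number of stored elements. -/
def numGens : ℕ := 95

/-- The table of element `x` at the point `i`. -/
def tab (x i : ℕ) : ℕ :=
  bif Nat.blt x numGens then Nat.mod (Nat.shiftRight (tbls.getD x 0) (Nat.mul 10 i)) 1024 else i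

/-- The code of a point. -/
def code (i : ℕ) : ℕ := ptCodes.getD i 0

/-- The words use earlier elements only and their tables are the stored ones. -/
def defsOK : ℕ → List (List ℕ) → Bool
  | _, [] => true
  | k, w :: ws => (w.all fun j => Nat.blt j k) && Nat.blt k numGens &&
      ((List.range 552).all fun i => Nat.beq (Based.walkTab tab w i) (tab k i)) &&
      defsOK (Nat.succ k) ws

/-- The code of the images of the separating points. -/
def keyOf (vs : List ℕ) (im : ℕ → ℕ) : ℕ := vs.foldl (fun k v => Nat.add (Nat.mul k 552) (im v)) 0

/-- The checks on the group for one prime. -/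
noncomputable def ok (rules : Rules) (fus : List (List (List ℕ) × List (List ℕ))) (W : ℕ) (p n : ℕ)
    (xs : List (List ℕ)) (gs vs : List ℕ) : Bool :=
  rules.all (fun l => Based.same tab baseIx (Based.expand xs l.1)
      (Based.expand xs l.2)) &&
    ((List.range fus.length).all fun f => (List.range W).all fun s =>
      Based.same tab baseIx
        (gs.getD f numGens :: Based.expand xs ((fus.getD f ([], [])).1.getD s []))
        (Based.expand xs ((fus.getD f ([], [])).2.getD s []) ++ [gs.getD f numGens])) &&
    vs.all (fun v => Nat.blt v 552) &&
    distinctB ((normalWords p n 0).map fun w =>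
      keyOf vs fun v => Based.walkTab tab (Based.expand xs w) v)

end CfsgLib.CoThreeMult
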