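import Cfsg.Agent.Leech.Configs
import Cfsg.Agent.Leech.Co0Order
import Cfsg.Agent.Schur.PermCert
import Cfsg.Agent.CoThreeMult.Tables
import Cfsg.Agent.CoThreeMult.CheckMoves
import Cfsg.Agent.CoThreeMult.CheckDefs

/-!
`Co₃` as a based permutation group on the 552 minimal vectors with inner product `24` with the
fixed vector: generators by moves, further elements by straight-line words, and a spanning base.
-/

set_option autoImplicit false
set_option Elab.async false
set_option maxRecDepth 100000

namespace CfsgLib.CoThreeMult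

open Cfsg CfsgLib.Leech CfsgLib.Mathieu TreeData CfsgLib.Schur.PermCert
open CfsgLib.Schur.Pc (ev)
open scoped Pointwise

attribute [local irreducible] dec penc pact

/-- The stabiliser of the fixed vector. -/
abbrev Stab : Subgroup Co0 := MulAction.stabilizer Co0 bD

theorem pts_eq : (ptCodes == treeList co3vGens [penc co3vRoot] co3vLvls) = true := by decide +kernel

theorem pts_length : Nat.beq ptCodes.length 552 = true := by decide +kernel

theorem pts_nodup : distinctB ptCodes = true := by decide +kernel

theorem set_eq_pts : dotSet baseD 24 = (fun c => vec (dec c)) '' {c | c ∈ ptCodes} := by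
  rw [beq_iff_eq.mp pts_eq]
  exact set_eq_tree co3v_tree (dotSet_finite _ _) ncard_dotSet_D.le sub552

theorem length_pts : ptCodes.length = 552 := Nat.eq_of_beq_eq_true pts_length

theorem code_mem {i : ℕ} (hi : i < 552) : code i ∈ ptCodes := by
  rw [code, List.getD_eq_getElem _ _ (length_pts.symm ▸ hi)]
  exact List.getElem_mem _

theorem vec_code_mem {i : ℕ} (hi : i < 552) : vec (dec (code i)) ∈ dotSet baseD 24 := by
  rw [set_eq_pts]
  exact ⟨code i, code_mem hi, rfl⟩

/-- The point number `i` as a lattice vector. -/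
noncomputable def P (i : ℕ) : leechLattice :=
  if h : i < 552 then ⟨vec (dec (code i)), (vec_code_mem h).1⟩ else 0

theorem P_val {i : ℕ} (hi : i < 552) : ((P i : leechLattice) : GolayPt → ℤ) = vec (dec (code i)) := by
  rw [P, dif_pos hi]

theorem penc_dec_code {i : ℕ} (hi : i < 552) : penc (dec (code i)) = code i := by
  have h := co3v_tree
  simp only [treeOK, Bool.and_eq_true, beq_iff_eq] at h
  exact (good_of_root h.1.1.1 (by simpa using h.1.1.2) h.1.2 co3vLvls (code i)
    (beq_iff_eq.mp pts_eq ▸ code_mem hi)).1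

theorem P_inj {i j : ℕ} (hi : i < 552) (hj : j < 552) (e : P i = P j) : i = j := by
  have e1 : vec (dec (code i)) = vec (dec (code j)) := by rw [← P_val hi, ← P_val hj, e]
  have e2 : code i = code j := by
    rw [← penc_dec_code hi, ← penc_dec_code hj, ← toList_vec (dec_length (code i)), e1,
      toList_vec (dec_length (code j))]
  rw [code, code, List.getD_eq_getElem _ _ (length_pts.symm ▸ hi),
    List.getD_eq_getElem _ _ (length_pts.symm ▸ hj)] at e2
  exact (nodup_of_distinctB pts_nodup).getElem_inj_iff.mp e2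

theorem exists_img (a : Stab) {i : ℕ} (hi : i < 552) : ∃ j < 552, a⁻¹ • P i = P j := by
  obtain ⟨hm, hn, hd⟩ := vec_code_mem hi
  have hfix : (a⁻¹ : Stab).1 • bD = bD := (a⁻¹).2
  have hmem : ((a⁻¹.1 • P i : leechLattice) : GolayPt → ℤ) ∈ dotSet baseD 24 := by
    refine ⟨(a⁻¹.1 • P i).2, ?_, ?_⟩
    · rw [co0_norm, P_val hi]; exact hn
    · have e := co0_dot a⁻¹.1 bD (P i)
      rw [hfix] at e
      change dotInt (bD : GolayPt → ℤ) _ = _
      rw [e, P_val hi]
      exact hd
  rw [set_eq_pts] at hmem
  obtain ⟨c, hc, e⟩ := hmem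
  obtain ⟨j, hj, rfl⟩ := List.getElem_of_mem hc
  refine ⟨j, length_pts ▸ hj, Subtype.ext ?_⟩
  rw [P_val (length_pts ▸ hj), code, List.getD_eq_getElem _ _ hj]
  exact e.symm

open Classical in
/-- The image of a point under an element, as a right action. -/
noncomputable def img (a : Stab) (i : ℕ) : ℕ :=
  if h : i < 552 then (exists_img a h).choose else i

theorem img_spec (a : Stab) {i : ℕ} (hi : i < 552) : img a i < 552 ∧ a⁻¹ • P i = P (img a i) := by
  rw [img, dif_pos hi]
  exact (exists_img a hi).choose_spec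

theorem img_eq {a : Stab} {i j : ℕ} (hi : i < 552) (hj : j < 552) (e : a⁻¹ • P i = P j) :
    img a i = j :=
  P_inj (img_spec a hi).1 hj ((img_spec a hi).2.symm.trans e)

theorem img_one' (i : ℕ) (hi : i < 552) : img 1 i = i :=
  img_eq hi hi (by rw [inv_one, one_smul])

theorem img_mul' (a b : Stab) (i : ℕ) (hi : i < 552) : img (a * b) i = img b (img a i) := by
  obtain ⟨h1, e1⟩ := img_spec a hi
  obtain ⟨h2, e2⟩ := img_spec b h1
  exact img_eq hi h2 (by rw [mul_inv_rev, mul_smul, e1, e2])

theorem co3v_gensOK : gensOK co3vFix co3vGens = true ∧ co3vGens.length = 5 ∧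
    vec co3vFix[0] = baseD := ⟨by decide +kernel, by decide +kernel, rfl⟩

theorem exists_base_gen (x : ℕ) (hx : x < 5) :
    ∃ g : Stab, ∀ i < 552, img g i = tab x i := by
  have hlen : x < co3vGens.length := co3v_gensOK.2.1.symm ▸ hx
  have hg := List.all_eq_true.1 co3v_gensOK.1 _ (List.getElem_mem hlen)
  simp only [Bool.and_eq_true, List.all_eq_true, beq_iff_eq] at hg
  obtain ⟨hok, hfix⟩ := hg
  obtain ⟨g, -, hgs⟩ := runMoves_spec co3vGens[x] (List.all_eq_true.2 hok)
  have hmem : g ∈ Stab := by
    refine Subtype.ext ?_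
    have hf : vec co3vFix[0] ∈ leechLattice := co3v_gensOK.2.2.symm ▸ bD.2
    rw [show bD = ⟨_, hf⟩ from Subtype.ext co3v_gensOK.2.2.symm, hgs _ hf, hfix _ (by simp [co3vFix])]
  refine ⟨(⟨g, hmem⟩ : Stab)⁻¹, fun i hi => ?_⟩
  have h := List.all_eq_true.1 moves_ok x (List.mem_range.2 hx)
  have h2 := List.all_eq_true.1 h i (List.mem_range.2 hi)
  simp only [Bool.and_eq_true] at h2
  have hj : tab x i < 552 := Nat.le_of_ble_eq_true h2.2
  refine img_eq hi hj (Subtype.ext ?_)
  rw [inv_inv]
  change ((g • P i : leechLattice) : GolayPt → ℤ) = _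
  rw [P, dif_pos hi, hgs _ (vec_code_mem hi).1, P_val hj,
    ← Nat.eq_of_beq_eq_true h2.1, List.getD_eq_getElem _ _ hlen,
    (prun_spec co3vGens[x] (List.all_eq_true.2 hok) (code i) (vec_code_mem hi).1
      ((vec_code_mem hi).2.1.le.trans (by norm_num)) (penc_dec_code hi)).1]

/-- The five generators. -/
noncomputable def baseGens : List Stab :=
  (List.range 5).map fun x => if h : x < 5 then (exists_base_gen x h).choose else 1

/-- One more element. -/
noncomputable def push (acc : List Stab) (w : List ℕ) : List Stab :=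
  acc ++ [ev (fun j => acc.getD j 1) w]

/-- All stored elements. -/
noncomputable def elems : List Stab := defs.foldl push baseGens

theorem img_ev (acc : List Stab) (hacc : ∀ x < acc.length, ∀ i < 552, img (acc.getD x 1) i = tab x i) :
    ∀ (w : List ℕ), (∀ j ∈ w, j < acc.length) → ∀ i < 552,
      img (ev (fun j => acc.getD j 1) w) i = Based.walkTab tab w i
  | [], _, i, hi => by rw [Schur.Pc.ev_nil, img_one' i hi]; rfl
  | j :: w, hw, i, hi => by
    have hj := hacc j (hw j List.mem_cons_self) i hi
    rw [Schur.Pc.ev_cons, img_mul' _ _ i hi,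
      img_ev acc hacc w (fun a ha => hw a (List.mem_cons_of_mem _ ha)) _ (img_spec _ hi).1, hj]
    rfl

theorem foldl_push : ∀ (ds : List (List ℕ)) (acc : List Stab), defsOK acc.length ds = true →
    (∀ x < acc.length, ∀ i < 552, img (acc.getD x 1) i = tab x i) →
      (ds.foldl push acc).length = acc.length + ds.length ∧
        ∀ x < (ds.foldl push acc).length, ∀ i < 552, img ((ds.foldl push acc).getD x 1) i = tab x i
  | [], acc, _, h => ⟨rfl, h⟩
  | w :: ws, acc, hok, h => by
    simp only [defsOK, Bool.and_eq_true, List.all_eq_true, List.mem_range] at hok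
    obtain ⟨⟨⟨hw, -⟩, htab⟩, hrest⟩ := hok
    have hl : (push acc w).length = acc.length + 1 := by simp [push]
    have h' : ∀ x < (push acc w).length, ∀ i < 552, img ((push acc w).getD x 1) i = tab x i := by
      intro x hx i hi
      rw [hl] at hx
      rcases Nat.lt_succ_iff_lt_or_eq.1 hx with hx' | rfl
      · rw [push, List.getD_append _ _ _ _ hx']
        exact h x hx' i hi
      · rw [push, List.getD_append_right _ _ _ _ le_rfl, Nat.sub_self, List.getD_cons_zero,
          img_ev acc h w (fun j hj => Nat.le_of_ble_eq_true (hw j hj)) i hi]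
        exact Nat.eq_of_beq_eq_true (htab i hi)
    obtain ⟨e1, e2⟩ := foldl_push ws (push acc w) (by rw [hl]; exact hrest) h'
    refine ⟨?_, e2⟩
    rw [List.foldl_cons, e1, hl, List.length_cons]
    omega

theorem baseGens_spec : ∀ x < baseGens.length, ∀ i < 552, img (baseGens.getD x 1) i = tab x i := by
  intro x hx i hi
  have h5 : x < 5 := by simpa [baseGens] using hx
  rw [baseGens, getD_map_range _ h5, dif_pos h5]
  exact (exists_base_gen x h5).choose_spec i hi

theorem elems_spec : elems.length = numGens ∧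
    ∀ x < numGens, ∀ i < 552, img (elems.getD x 1) i = tab x i := by
  have h5 : baseGens.length = 5 := by simp [baseGens]
  obtain ⟨h1, h2⟩ := foldl_push defs baseGens (h5.symm ▸ defs_ok) baseGens_spec
  have hl : (defs.foldl push baseGens).length = numGens := by
    rw [h1, h5]; exact (by decide +kernel : 5 + defs.length = numGens)
  exact ⟨hl, fun x hx => h2 x (hl.symm ▸ hx)⟩

theorem coefs_ok : ((List.range 24).all fun p => (List.range 24).all fun q =>
    (if p = q then 8 * (den : ℤ) else 0) ==
      ((List.range 24).map fun k =>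
        (coefs.getD p []).getD k 0 * pcoord (code (baseIx.getD k 0)) q).sum) = true := by
  decide +kernel

theorem baseIx_ok : (baseIx.all fun b => Nat.blt b 552) = true ∧ baseIx.length = 24 ∧ 0 < den := by
  decide +kernel

theorem base_ext' (a b : Stab) (h : ∀ i ∈ baseIx, img a i = img b i) : a = b := by
  refine inv_injective (Subtype.ext (co0_ext fun v => ?_))
  have hlt : ∀ i ∈ baseIx, i < 552 := fun i hi =>
    Nat.le_of_ble_eq_true (List.all_eq_true.1 baseIx_ok.1 i hi)
  have hk : ∀ k < 24, baseIx.getD k 0 ∈ baseIx := fun k hk => by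
    rw [List.getD_eq_getElem _ _ (baseIx_ok.2.1.symm ▸ hk)]; exact List.getElem_mem _
  let φ : leechLattice →+ leechLattice := co0Hom (a⁻¹ : Stab).1 - co0Hom (b⁻¹ : Stab).1
  have hP : ∀ k < 24, φ (P (baseIx.getD k 0)) = 0 := by
    intro k hk'
    have hm := hk k hk'
    have hi := hlt _ hm
    change (a⁻¹ : Stab).1 • P _ - (b⁻¹ : Stab).1 • P _ = 0
    rw [show (a⁻¹ : Stab).1 • P (baseIx.getD k 0) = _ from (img_spec a hi).2,
      show (b⁻¹ : Stab).1 • P (baseIx.getD k 0) = _ from (img_spec b hi).2, h _ hm, sub_self]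
  let c : ℕ → ℤ := fun k => ∑ p ∈ Finset.range 24, (v : GolayPt → ℤ) (pt p) * (coefs.getD p []).getD k 0
  have hspan : (8 * (den : ℤ)) • v = ∑ k ∈ Finset.range 24, c k • P (baseIx.getD k 0) := by
    apply Subtype.ext
    funext r
    obtain ⟨q, hq, rfl⟩ : ∃ q < 24, pt q = r := ⟨idx r, idx_lt r, pt_idx r⟩
    rw [AddSubgroup.coe_zsmul, AddSubgroup.val_finsetSum, Pi.smul_apply, Finset.sum_apply,
      smul_eq_mul]
    have hval : ∀ k ∈ Finset.range 24, ((c k • P (baseIx.getD k 0) : leechLattice) : GolayPt → ℤ) (pt q) =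
        ∑ p ∈ Finset.range 24, (v : GolayPt → ℤ) (pt p) *
          ((coefs.getD p []).getD k 0 * pcoord (code (baseIx.getD k 0)) q) := by
      intro k hk'
      rw [AddSubgroup.coe_zsmul, Pi.smul_apply, smul_eq_mul, P_val (hlt _ (hk k (Finset.mem_range.1 hk'))),
        vec_getD, idx_pt hq, dec_getD _ hq, Finset.sum_mul]
      simp only [mul_assoc]
    rw [Finset.sum_congr rfl hval, Finset.sum_comm,
      Finset.sum_eq_single q]
    · rw [← Finset.mul_sum, mul_comm]
      have e := List.all_eq_true.1 (List.all_eq_true.1 coefs_ok q (List.mem_range.2 hq)) q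
        (List.mem_range.2 hq)
      rw [beq_iff_eq, if_pos rfl, ← List.sum_toFinset _ List.nodup_range, List.toFinset_range] at e
      rw [← e]
    · intro p hp hne
      have e := List.all_eq_true.1 (List.all_eq_true.1 coefs_ok p
        (List.mem_range.2 (Finset.mem_range.1 hp))) q (List.mem_range.2 hq)
      rw [beq_iff_eq, if_neg hne, ← List.sum_toFinset _ List.nodup_range, List.toFinset_range] at e
      rw [← Finset.mul_sum, ← e, mul_zero]
    · exact fun hn => absurd (Finset.mem_range.2 hq) hn
  have h0 : (8 * (den : ℤ)) • φ v = 0 := by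
    rw [← map_zsmul, hspan, map_sum]
    exact Finset.sum_eq_zero fun k hk' => by rw [map_zsmul, hP k (Finset.mem_range.1 hk'), zsmul_zero]
  have hd : (8 * (den : ℤ)) ≠ 0 := by have := baseIx_ok.2.2; omega
  refine sub_eq_zero.1 (?_ : φ v = 0)
  apply Subtype.ext
  funext r
  have e := congrFun (congrArg Subtype.val h0) r
  rw [AddSubgroup.coe_zsmul, Pi.smul_apply, smul_eq_mul, AddSubgroup.coe_zero, Pi.zero_apply] at e
  exact (mul_eq_zero.1 e).resolve_left hd

/-- `Co₃` as a based group. -/
noncomputable def based : Based Stab where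
  N := 552
  gen := fun x => elems.getD x 1
  tab := tab
  base := baseIx
  img := img
  img_one := img_one'
  img_mul := img_mul'
  img_lt := fun a _ hi => (img_spec a hi).1
  img_gen := fun x i hi => by
    by_cases hx : x < numGens
    · exact elems_spec.2 x hx i hi
    · rw [List.getD_eq_default _ _ (elems_spec.1.trans_le (not_lt.1 hx)), img_one' i hi, tab,
        show Nat.blt x numGens = false from Bool.eq_false_iff.2 fun hb =>
          hx (Nat.le_of_ble_eq_true hb)]
      rfl
  base_lt := fun b hb => Nat.le_of_ble_eq_true (List.all_eq_true.1 baseIx_ok.1 b hb)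
  base_ext := base_ext'

end CfsgLib.CoThreeMult
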