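import Cfsg.Agent.CoThreeMult.Tables
import Cfsg.Agent.CoThreeMult.SylowData

/-!
The checks for the prime 5 and the cyclic Sylow subgroups.
-/

set_option autoImplicit false
set_option Elab.async false
set_option maxRecDepth 100000

namespace CfsgLib.CoThreeMult

open CfsgLib.Leech CfsgLib.Schur.PermCert

theorem ok_five : ok cert5.rules cert5.fus cert5.fusW cert5.p cert5.n syl5 conj5 sep5 = true := by
  decide +kernel

theorem check_five : cert5.check = true := by decide +kernel

theorem ok_cyclic : primeOk 7 [elt7.1] elt7.2 tab 552 baseIx = true ∧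
    primeOk 11 [elt11.1] elt11.2 tab 552 baseIx = true ∧
    primeOk 23 [elt23.1] elt23.2 tab 552 baseIx = true := by decide +kernel

end CfsgLib.CoThreeMult
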