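import Cfsg.Agent.CoThreeMult.Tables
import Cfsg.Agent.CoThreeMult.SylowData

/-!
The checks on the group for the prime 3.
-/

set_option autoImplicit false
set_option Elab.async false
set_option maxRecDepth 100000

namespace CfsgLib.CoThreeMult

open CfsgLib.Leech CfsgLib.Schur.PermCert

theorem ok_three : ok cert3.rules cert3.fus cert3.fusW cert3.p cert3.n syl3 conj3 sep3 = true := by
  decide +kernel

end CfsgLib.CoThreeMult
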