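import Cfsg.Agent.CoThreeMult.Tables
import Cfsg.Agent.CoThreeMult.SylowData

/-!
The checks for the prime 2.
-/

set_option autoImplicit false
set_option Elab.async false
set_option maxRecDepth 100000

namespace CfsgLib.CoThreeMult

open CfsgLib.Leech CfsgLib.Schur.PermCert

theorem ok_two : ok cert2.rules cert2.fus 16 2 cert2.n syl2 conj2 sep2 = true := by decide +kernel

theorem eqs_two : cert2.eqsCheck = true := by decide +kernel

theorem lin_two : cert2.linCheck = true := by decide +kernel

end CfsgLib.CoThreeMult
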