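import Cfsg.Agent.CoThreeMult.Action
import Cfsg.Agent.CoThreeMult.SylowData
import Cfsg.Agent.CoThreeMult.CheckTwo
import Cfsg.Agent.CoThreeMult.CheckThree
import Cfsg.Agent.CoThreeMult.CheckThreeGroup
import Cfsg.Agent.CoThreeMult.CheckFive
import Cfsg.Agent.SchurBound.Basic
import Cfsg.Prelude.Def_Spor_Conway

/-!
The Schur multiplier of `Co₃` is trivial.
-/

set_option autoImplicit false
set_option Elab.async false
set_option maxRecDepth 100000
set_option linter.style.haveILetI false

namespace CfsgLib.CoThreeMult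

open Cfsg Cfsg.Spor CfsgLib.Leech CfsgLib.Schur.PermCert
open CfsgLib.Schur.Pc (ev tailSubgroup normalWords Rules)

theorem rules_of_ok {rules fus W p n xs gs vs} (h : ok rules fus W p n xs gs vs = true) :
    ∀ q ∈ rules, ev (based.elem xs) q.1 = ev (based.elem xs) q.2 := by
  simp only [ok, Bool.and_eq_true, List.all_eq_true] at h
  exact fun q hq => based.rel_of_same (h.1.1.1 q hq)

theorem fus_of_ok {rules fus W p n xs gs vs} (h : ok rules fus W p n xs gs vs = true) :
    ∀ F ∈ fus, ∃ g : Stab, ∀ s < W, g * ev (based.elem xs) (F.1.getD s []) * g⁻¹ =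
      ev (based.elem xs) (F.2.getD s []) := by
  simp only [ok, Bool.and_eq_true, List.all_eq_true, List.mem_range] at h
  intro F hF
  obtain ⟨f, hf, rfl⟩ := List.getElem_of_mem hF
  refine ⟨ev based.gen [gs.getD f numGens], fun s hs => ?_⟩
  have e := based.ev_eq_of_same (h.1.1.2 f hf s hs)
  rw [List.getD_eq_getElem _ _ hf] at e
  rw [mul_inv_eq_iff_eq_mul, based.ev_elem, based.ev_elem, ← Schur.Pc.ev_append,
    ← Schur.Pc.ev_append]
  exact e

theorem card_Stab : Nat.card Stab = 495766656000 := card_stab_norm48 base_facts.1.2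

theorem card_of_ok {rules fus W p n xs gs vs} (h : ok rules fus W p n xs gs vs = true) :
    p ^ n ≤ Nat.card (tailSubgroup (based.elem xs) n 0) := by
  simp only [ok, Bool.and_eq_true, List.all_eq_true] at h
  haveI : Finite Stab := Nat.finite_of_card_ne_zero (by rw [card_Stab]; norm_num)
  refine Schur.Pc.le_card_of_nodup (fun g : Stab => keyOf vs fun v => img g v) p n _ ?_
  have e : (normalWords p n 0).map (fun w => keyOf vs fun v => img (ev (based.elem xs) w) v) =
      (normalWords p n 0).map fun w =>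
        keyOf vs fun v => Based.walkTab tab (Based.expand xs w) v := by
    refine List.map_congr_left fun w _ => ?_
    rw [keyOf, keyOf]
    refine List.foldl_ext _ _ 0 fun k v hv => ?_
    rw [based.ev_elem]
    exact congrArg _ (based.img_ev _ _ (Nat.le_of_ble_eq_true (h.1.2 v hv)))
  rw [e]
  exact nodup_of_distinctB h.2

variable {Γ : Type} [Group Γ] [Finite Γ] (σ : Γ →* Stab) (hσ : Cfsg.IsStemExtension σ)

include hσ

theorem not_dvd_index {p n m : ℕ} {rules fus W xs gs vs}
    (h : ok rules fus W p n xs gs vs = true) (hs : Schur.Pc.shaped p n rules = true) (hp : 0 < p)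
    (hm : p ^ n * m = 495766656000) (hmp : ¬ p ∣ m) :
    ¬ p ∣ (tailSubgroup (based.elem xs) n 0).index := by
  haveI : Finite Stab := Finite.of_surjective σ hσ.1
  have hS : Nat.card (tailSubgroup (based.elem xs) n 0) = p ^ n :=
    le_antisymm (Schur.Pc.card_tailSubgroup_le _ hs (rules_of_ok h) n 0 (Nat.zero_add _))
      (card_of_ok h)
  have e := Subgroup.index_mul_card (tailSubgroup (based.elem xs) n 0)
  rw [hS, card_Stab, ← hm, Nat.mul_comm] at e
  rwa [Nat.eq_of_mul_eq_mul_left (pow_pos hp n) e]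

theorem two_part (hexp : ∀ z ∈ σ.ker, z ^ 2 = 1) : σ.ker = ⊥ := by
  have hs : Schur.Pc.shaped 2 cert2.n cert2.rules = true := by
    have h := lin_two
    simp only [Schur.Two.Cert.linCheck, Bool.and_eq_true] at h
    exact h.1.2
  refine Schur.Two.Cert.ker_eq_bot cert2 σ hσ hexp eqs_two lin_two (based.elem syl2)
    (fun a b hab hb => ?_) (fus_of_ok ok_two) (card_of_ok ok_two)
    (not_dvd_index σ hσ ok_two hs Nat.two_pos (m := 484147125) (by decide +kernel) (by norm_num))
  have e := rules_of_ok ok_two ([b, a], cert2.rule b a) (by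
    simp only [Schur.Two.Cert.rules, List.mem_flatMap, List.mem_map, List.mem_range]
    exact ⟨b, hb, a, by omega, rfl⟩)
  rw [Schur.Pc.ev_cons, Schur.Pc.ev_cons, Schur.Pc.ev_nil, mul_one] at e
  exact e

theorem odd_part (C : Schur.Pc.Cert) (xs : List (List ℕ)) (gs vs : List ℕ)
    (h : ok C.rules C.fus C.fusW C.p C.n xs gs vs = true) (hc : C.check = true) (hp : C.p.Prime)
    {m : ℕ} (hm : C.p ^ C.n * m = 495766656000) (hmp : ¬ C.p ∣ m)
    (hexp : ∀ z ∈ σ.ker, z ^ C.p = 1) : σ.ker = ⊥ := by
  have hs : Schur.Pc.shaped C.p C.n C.rules = true := by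
    simp only [Schur.Pc.Cert.check, Bool.and_eq_true] at hc
    exact hc.1.1
  exact C.ker_eq_bot σ hσ hp hexp hc _ (rules_of_ok h) (fus_of_ok h) (card_of_ok h)
    (not_dvd_index σ hσ h hs hp.pos hm hmp)

omit hσ

theorem stab_trivial : Cfsg.HasCyclicSchurMultiplier Stab 1 := by
  haveI : Finite Stab := Nat.finite_of_card_ne_zero (by rw [card_Stab]; norm_num)
  refine Schur.hasCyclicSchurMultiplier_one _ fun p hp hd Γ _ _ σ hσ hexp => ?_
  rw [card_Stab,
    show (495766656000 : ℕ) = 2 ^ 10 * (3 ^ 7 * (5 ^ 3 * (7 * (11 * 23)))) by norm_num] at hd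
  simp only [hp.dvd_mul] at hd
  rcases hd with h | h | h | h | h | h
  · obtain rfl := (Nat.prime_dvd_prime_iff_eq hp Nat.prime_two).1 (hp.dvd_of_dvd_pow h)
    exact two_part σ hσ hexp
  · obtain rfl := (Nat.prime_dvd_prime_iff_eq hp Nat.prime_three).1 (hp.dvd_of_dvd_pow h)
    exact odd_part σ hσ cert3 syl3 conj3 sep3 ok_three check_three Nat.prime_three
      (m := 226688000) (by decide +kernel) (show ¬ 3 ∣ _ by norm_num) hexp
  · obtain rfl := (Nat.prime_dvd_prime_iff_eq hp Nat.prime_five).1 (hp.dvd_of_dvd_pow h)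
    exact odd_part σ hσ cert5 syl5 conj5 sep5 ok_five check_five Nat.prime_five
      (m := 3966133248) (by decide +kernel) (show ¬ 5 ∣ _ by norm_num) hexp
  · obtain rfl := (Nat.prime_dvd_prime_iff_eq hp (by norm_num)).1 h
    exact prime_ker_eq_bot based σ hσ 7 [elt7.1] elt7.2 ok_cyclic.1 (by norm_num)
      (m := 70823808000) (by rw [card_Stab]) (by norm_num) hexp
  · obtain rfl := (Nat.prime_dvd_prime_iff_eq hp (by norm_num)).1 h
    exact prime_ker_eq_bot based σ hσ 11 [elt11.1] elt11.2 ok_cyclic.2.1 (by norm_num)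
      (m := 45069696000) (by rw [card_Stab]) (by norm_num) hexp
  · obtain rfl := (Nat.prime_dvd_prime_iff_eq hp (by norm_num)).1 h
    exact prime_ker_eq_bot based σ hσ 23 [elt23.1] elt23.2 ok_cyclic.2.2 (by norm_num)
      (m := 21555072000) (by rw [card_Stab]) (by norm_num) hexp

theorem leechV_eq : leechV = -bD :=
  Subtype.ext (show vecV = -baseD by funext p; exact (by decide +kernel : ∀ p, vecV p = (-baseD) p) p)

theorem stab_leechV : Cfsg.Spor.Co3 = Stab.map Co0.subtype := by
  ext f
  constructor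
  · rintro ⟨hf, hv⟩
    refine ⟨⟨f, hf⟩, ?_, rfl⟩
    have e : (⟨f, hf⟩ : Co0) • leechV = leechV := hv
    rw [leechV_eq, co0_neg, neg_inj] at e
    exact e
  · rintro ⟨g, hg, rfl⟩
    refine ⟨g.2, ?_⟩
    change g • leechV = leechV
    rw [leechV_eq, co0_neg, show g • bD = bD from hg]

/-- The Schur multiplier of `Co₃` is trivial. -/
theorem multiplier_Co3 : Cfsg.HasCyclicSchurMultiplier ↥Cfsg.Spor.Co3 1 :=
  CfsgLib.SchurBound.hasSchurMultiplier_congr
    ((Stab.equivMapOfInjective Co0.subtype Co0.subtype_injective).trans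
      (MulEquiv.subgroupCongr stab_leechV.symm)) stab_trivial

end CfsgLib.CoThreeMult
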